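import Groth.Agent.CurveRR24.BCField
import Groth.Agent.DimLib.BaseChange
import Groth.Agent.AbSchLib.GlobalSections
import Groth.Agent.AbVarLib.GeomIntegralSmooth
import Mathlib.AlgebraicGeometry.ResidueField

/-!
# Field valued fibres of families of curves
-/

set_option autoImplicit false
set_option linter.style.haveILetI false
set_option backward.isDefEq.respectTransparency.types false

universe u

open CategoryTheory CategoryTheory.Limits AlgebraicGeometry

namespace Groth.Agent.CurveModel24

/-- A field-valued fibre has the dimension and the genus of the fibre at its point. -/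
theorem fibre_invariants {X S : Scheme.{u}} (f : X ⟶ S) [LocallyOfFiniteType f] [QuasiCompact f] [QuasiSeparated f]
    {K : Type u} [Field K] (b : Spec (CommRingCat.of K) ⟶ S) :
    ∃ s : S, topologicalKrullDim ↥(pullback f b) = topologicalKrullDim ↥(f.fiber s) ∧
      letI : (pullback f b).Over (Spec (CommRingCat.of K)) := ⟨pullback.snd f b⟩
      letI : (f.fiber s).Over (Spec (S.residueField s)) := ⟨f.fiberToSpecResidueField s⟩
      Curv2.genus K (pullback f b) = Curv2.genus (S.residueField s) (f.fiber s) := by
  obtain ⟨⟨s, φ⟩, hb⟩ := (Scheme.SpecToEquivOfField K S).symm.surjective b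
  change Spec.map φ ≫ S.fromSpecResidueField s = b at hb
  subst hb
  refine ⟨s, ?_⟩
  let k := ↥(S.residueField s)
  letI : Algebra k K := φ.hom.toAlgebra
  let b' := Spec.map φ ≫ S.fromSpecResidueField s
  let g : pullback f b' ⟶ f.fiber s := pullback.lift (pullback.fst f b') (pullback.snd f b' ≫ Spec.map φ)
    (by rw [Category.assoc]; exact pullback.condition)
  have sq : IsPullback g (pullback.snd f b') (f.fiberToSpecResidueField s) (Spec.map φ) :=
    IsPullback.of_right (by simp only [g]; erw [pullback.lift_fst]; exact IsPullback.of_hasPullback f b')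
      (pullback.lift_snd _ _ _) (IsPullback.of_hasPullback f (S.fromSpecResidueField s))
  haveI : LocallyOfFiniteType (f.fiberToSpecResidueField s) := MorphismProperty.pullback_snd (P := @LocallyOfFiniteType) _ _ inferInstance
  refine ⟨?_, ?_⟩
  · have h := DimLib.topologicalKrullDim_bc (k := k) (f.fiberToSpecResidueField s) K
    refine Eq.trans ?_ h
    exact (sq.isoPullback.hom.homeomorph).isHomeomorph.topologicalKrullDim_eq
  · letI : (pullback f b').Over (Spec (CommRingCat.of K)) := ⟨pullback.snd f b'⟩
    letI : (f.fiber s).Over (Spec (CommRingCat.of k)) := ⟨f.fiberToSpecResidueField s⟩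
    haveI : QuasiCompact (f.fiberToSpecResidueField s) := MorphismProperty.pullback_snd (P := @QuasiCompact) _ _ inferInstance
    haveI : QuasiSeparated (f.fiberToSpecResidueField s) := MorphismProperty.pullback_snd (P := @QuasiSeparated) _ _ inferInstance
    haveI : CompactSpace (f.fiber s) := QuasiCompact.compactSpace_of_compactSpace (f.fiberToSpecResidueField s)
    haveI : QuasiSeparatedSpace (f.fiber s) := quasiSeparatedSpace_of_quasiSeparated (f.fiberToSpecResidueField s)
    exact CurveRR24.genus_bc (k := k) (K := K) sq

/-- A smooth proper geometrically connected scheme over a field has only constant functions. -/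
theorem isIso_appTop {K : Type u} [Field K] {X : Scheme.{u}} (f : X ⟶ Spec (CommRingCat.of K)) [IsProper f] [Smooth f]
    [GeometricallyConnected f] : IsIso f.appTop := by
  haveI : GeometricallyIntegral f := AbVarLib.geometricallyIntegral_of_smooth f
  exact (ConcreteCategory.isIso_iff_bijective f.appTop).2 (AbSchLib.bijective_appTop_of_field K f)

end Groth.Agent.CurveModel24
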