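import Groth.Agent.H8Lim.NoetherianModel
import Groth.Agent.LimSmooth.Affine
import Groth.Agent.FlatMorApprox.Refine
import Groth.Agent.FlatMorGeomIrr.CountOne
import Groth.Agent.EGA43.ConnCount.ProperFlat
import Groth.Agent.FlatMorDim.BaseChange
import Groth.Agent.FlatMorDim.Semicont
import Groth.Agent.Clifford24.SmoothFamilyO

/-!
# Finite type models over `ℤ` of families of smooth curves
-/

set_option autoImplicit false
set_option linter.style.haveILetI false
set_option backward.isDefEq.respectTransparency.types false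

universe u

open CategoryTheory CategoryTheory.Limits AlgebraicGeometry Opposite TopologicalSpace
open Groth.Agent

namespace Groth.Agent.CurveModel24

/-- A proper smooth finitely presented scheme over an affine base has a proper smooth model over a
finitely generated subring. -/
theorem exists_model_proper_smooth {R : Type u} [CommRing R] {X : Scheme.{u}}
    (f : X ⟶ Spec (CommRingCat.of R)) [IsProper f] [Smooth f] :
    ∃ (s : Finset R) (X₀ : Scheme.{u}) (f₀ : X₀ ⟶ Spec (CommRingCat.of (H8Lim.fgSub R s))) (g : X ⟶ X₀),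
      IsProper f₀ ∧ Smooth f₀ ∧
      IsPullback g f f₀ (Spec.map (CommRingCat.ofHom (H8Lim.fgSub R s).val.toRingHom)) := by
  obtain ⟨s, Z, h, q, hfp, hp, sq⟩ := H8Lim.exists_noetherian_model_proper f
  let j : (Finset R)ᵒᵖ := op s
  have sq' : IsPullback q f h ((H8Lim.fgSpecCone R).π.app j) := sq
  haveI : CompactSpace Z := QuasiCompact.compactSpace_of_compactSpace h
  haveI : QuasiSeparatedSpace Z := quasiSeparatedSpace_of_quasiSeparated h
  obtain ⟨k, φ, Xk, Yk, fk, gk, pY, pX, hY, hX, hk⟩ :=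
    LimSmooth.exists_stage (H8Lim.isLimitFgSpecCone R) (g₀ := 𝟙 ((H8Lim.fgSpecDiagram R).obj j))
      (f₀ := h) (f := f) (g := 𝟙 (H8Lim.fgSpecCone R).pt)
      (qY := (H8Lim.fgSpecCone R).π.app j) (IsPullback.of_id_snd) sq'
      LimSmooth.affineSpreads_smooth (fun _ _ ↦ inferInstance) (show Smooth f from inferInstance)
  haveI : IsIso gk := hY.isIso_snd_of_isIso (IsIso.id _)
  haveI : Smooth (fk ≫ gk) := inferInstance
  have hs : Smooth (pullback.snd h ((H8Lim.fgSpecDiagram R).map φ)) :=
    H8Lim.prop_snd_of_isPullback ((Category.comp_id h) ▸ hX.paste_vert hY) this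
  exact ⟨k.unop, _, pullback.snd h ((H8Lim.fgSpecDiagram R).map φ), _,
    MorphismProperty.pullback_snd (P := @IsProper) _ _ hp, hs,
    H8Lim.isPullback_later (D := H8Lim.fgSpecDiagram R) (c := H8Lim.fgSpecCone R) sq' φ (H8Lim.eq_later sq' φ)⟩

variable {X S : Scheme.{u}} (f : X ⟶ S)

/-- The conditions for a fibre to be a curve of genus `g`. -/
def IsGenusFibre (g : ℕ) (s : S) : Prop :=
  topologicalKrullDim ↥(f.fiber s) = 1 ∧ MoreMor.nGeomConnComp f s = 1 ∧
    CohIII.fiberRank f (Coh.structureModule X) 1 s = g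

theorem fiberRank_eq_genus [IsProper f] (s : S) :
    letI : (f.fiber s).Over (Spec (S.residueField s)) := ⟨f.fiberToSpecResidueField s⟩
    CohIII.fiberRank f (Coh.structureModule X) 1 s = Curv2.genus (S.residueField s) (f.fiber s) := by
  letI := Clifford24.fibreOver f s
  exact Coherent.CohBC.finrank_HH_congr (S.residueField s) (PicLoc.pullbackStructureIso (f.fiberι s)) 1

theorem fiberRank_structure_pullback {X' S' : Scheme.{u}} {g' : X' ⟶ X} {f' : X' ⟶ S'} {g : S' ⟶ S}
    [QuasiCompact f] [QuasiSeparated f] (h : IsPullback g' f' f g) (p : ℕ) (y' : S') :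
    CohIII.fiberRank f' (Coh.structureModule X') p y' = CohIII.fiberRank f (Coh.structureModule X) p (g y') := by
  haveI : Coh.IsQCoh (Coh.structureModule X) := Coherent.isQCoh_structureModule (X := X)
  obtain ⟨e⟩ := AmpleLib.exists_pullStructureIso g'
  exact ((Coherent.CohBC.finrank_HH_congr (S'.residueField y')
    ((Scheme.Modules.pullback (f'.fiberι y')).mapIso e.symm) p).trans
      (Coherent.CohBC.fiberRank_pullback h (Coh.structureModule X) p y'))

theorem isGenusFibre_iff_of_isPullback {X' S' : Scheme.{u}} {g' : X' ⟶ X} {f' : X' ⟶ S'} {g : S' ⟶ S}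
    [IsProper f] (h : IsPullback g' f' f g) (γ : ℕ) (y' : S') :
    IsGenusFibre f' γ y' ↔ IsGenusFibre f γ (g y') := by
  rw [IsGenusFibre, IsGenusFibre, FlatMorDim.fiber_dim_baseChange h y',
    (FlatMorGeomIrr.counts_baseChange f f' g' g h y').2, fiberRank_structure_pullback f h 1 y']

theorem isOpen_isGenusFibre [IsProper f] [Smooth f] (γ : ℕ) :
    IsOpen {s : S | IsGenusFibre f γ s} := by
  haveI : GeometricallyReduced f := AbSchLib.geometricallyReduced_of_smooth f
  let D : Set S := ({s | topologicalKrullDim ↥(f.fiber s) ≤ 1} ∩ {s | (0 : WithBot ℕ∞) < topologicalKrullDim ↥(f.fiber s)}) ∩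
    {s | MoreMor.nGeomConnComp f s = 1}
  have hD : IsOpen D := by
    refine ((FlatMorDim.isOpen_fiber_dim_le f 1).inter (FlatMorDim.isOpen_lt_fiber_dim f 0)).inter ?_
    refine isOpen_iff_mem_nhds.2 fun s hs => ?_
    obtain ⟨V, hV, hVeq⟩ := EGA43.ConnCount.count_const_nhd_flat f s inferInstance
    exact Filter.mem_of_superset hV fun z hz => (hVeq z hz).trans hs
  have hD' : ∀ s, s ∈ D ↔ topologicalKrullDim ↥(f.fiber s) = 1 ∧ MoreMor.nGeomConnComp f s = 1 := by
    intro s
    constructor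
    · rintro ⟨⟨h1, h0⟩, hc⟩
      refine ⟨le_antisymm h1 ?_, hc⟩
      revert h0
      show (0 : WithBot ℕ∞) < topologicalKrullDim ↥(f.fiber s) → _
      generalize topologicalKrullDim ↥(f.fiber s) = a
      induction a using WithBot.recBotCoe with
      | bot => simp
      | coe a => exact fun h => WithBot.coe_le_coe.2 (Order.one_le_iff_pos.2 (WithBot.coe_pos.1 h))
    · rintro ⟨h1, hc⟩
      exact ⟨⟨h1.le, show (0 : WithBot ℕ∞) < topologicalKrullDim ↥(f.fiber s) by rw [h1]; exact zero_lt_one⟩, hc⟩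
  let V : S.Opens := ⟨D, hD⟩
  have hsq := (isPullback_morphismRestrict f V).flip
  haveI : IsProper (f ∣_ V) := inferInstance
  haveI : Smooth (f ∣_ V) := inferInstance
  haveI : GeometricallyConnected (f ∣_ V) := by
    refine (GeometricallyConnected.iff_geometricallyConnected_fiber _).2 fun z => ?_
    rw [FlatMorGeomIrr.geometricallyConnected_iff_count, (FlatMorGeomIrr.counts_baseChange f _ _ _ hsq z).2]
    exact ((hD' _).1 z.2).2
  have hloc : IsOpen {z : V.toScheme | CohIII.fiberRank (f ∣_ V) (Coh.structureModule _) 1 z = γ} := by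
    refine isOpen_iff_forall_mem_open.2 fun z hz => ?_
    haveI := Coherent.isQCoh_structureModule (X := (f ⁻¹ᵁ V).toScheme)
    obtain ⟨C, hC, h0, h1⟩ := Clifford24.exists_chart_structure (f ∣_ V)
      (Clifford24.bijective_algebraMap_smooth_fibre (f ∣_ V)) z (p := 2)
      (CohExch.subsingleton_fiberH_of_dim (Clifford24.isFP_structure (X := (f ⁻¹ᵁ V).toScheme)) 1 z
        (by rw [FlatMorDim.fiber_dim_baseChange hsq z]; exact_mod_cast ((hD' (V.ι z)).1 z.2).1.le) 2 one_lt_two)
    have h1' : C.Flat ((1 : ℕ) : ℤ) := by simpa using h1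
    obtain ⟨O, hO, hzO, hOc⟩ := (IsLocallyConstant.iff_exists_open _).1
      (C.isLocallyConstant_fiberRank (Clifford24.isFlatOver_structure (f ∣_ V)) 1 h1' (by simpa using h0)) ⟨z, hC⟩
    exact ⟨Subtype.val '' O, by rintro _ ⟨v, hv, rfl⟩; exact (hOc v hv).trans hz,
      C.U.2.isOpenEmbedding_subtypeVal.isOpenMap O hO, ⟨⟨z, hC⟩, hzO, rfl⟩⟩
  have e : {s : S | IsGenusFibre f γ s} =
      V.ι '' {z : V.toScheme | CohIII.fiberRank (f ∣_ V) (Coh.structureModule _) 1 z = γ} := by
    ext s
    constructor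
    · intro hs
      refine ⟨⟨s, (hD' s).2 ⟨hs.1, hs.2.1⟩⟩, ?_, rfl⟩
      exact (fiberRank_structure_pullback f hsq 1 _).trans hs.2.2
    · rintro ⟨z, hz, rfl⟩
      exact ⟨((hD' _).1 z.2).1, ((hD' _).1 z.2).2, (fiberRank_structure_pullback f hsq 1 z).symm.trans hz⟩
  rw [e]
  exact V.ι.isOpenEmbedding.isOpenMap _ hloc

/-- A smooth curve over a ring is the base change of one over a finitely generated subring. -/
theorem exists_model_curve {R : Type u} [CommRing R] {X : Scheme.{u}}
    (f : X ⟶ Spec (CommRingCat.of R)) [IsProper f] [Smooth f] (γ : ℕ) (h : ∀ s, IsGenusFibre f γ s) :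
    ∃ (A : Subalgebra ℤ R) (X₀ : Scheme.{u}) (f₀ : X₀ ⟶ Spec (CommRingCat.of A)) (g : X ⟶ X₀),
      Algebra.FiniteType ℤ A ∧ IsProper f₀ ∧ Smooth f₀ ∧ (∀ s, IsGenusFibre f₀ γ s) ∧
      IsPullback g f f₀ (Spec.map (CommRingCat.ofHom A.val.toRingHom)) := by
  obtain ⟨s, X₀, f₀, g, _, _, sq⟩ := exists_model_proper_smooth f
  haveI : IsNoetherian (Spec (CommRingCat.of (H8Lim.fgSub R s))) := inferInstance
  have hft : (algebraMap ℤ (H8Lim.fgSub R s)).FiniteType :=
    RingHom.finiteType_algebraMap.2 (Algebra.FiniteType.adjoin_of_finite s.finite_toSet)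
  have hop := isOpen_isGenusFibre f₀ γ
  have hC : Topology.IsConstructible (X := PrimeSpectrum (H8Lim.fgSub R s))
      {p : PrimeSpectrum (H8Lim.fgSub R s) | IsGenusFibre f₀ γ p} :=
    (NoetherianSpace.isCompact _).isConstructible hop
  obtain ⟨A₁, _, α, β, hαβ, hA₁, hall⟩ := FlatMorApprox.exists_fg_refinement
    (H8Lim.fgSub R s).val.toRingHom hft _ hC (fun p => (isGenusFibre_iff_of_isPullback f₀ sq γ p).1 (h p))
  let A : Subalgebra ℤ R := β.toIntAlgHom.range
  let π : A₁ →+* A := β.toIntAlgHom.rangeRestrict.toRingHom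
  have hA : Algebra.FiniteType ℤ A :=
    RingHom.finiteType_algebraMap.1 (by
      have h' := hA₁.comp_surjective (g := π) (AlgHom.rangeRestrict_surjective _)
      rwa [RingHom.ext_int (π.comp (algebraMap ℤ A₁)) (algebraMap ℤ A)] at h')
  let a : Spec (CommRingCat.of A) ⟶ Spec (CommRingCat.of (H8Lim.fgSub R s)) :=
    Spec.map (CommRingCat.ofHom (π.comp α))
  have hba : Spec.map (CommRingCat.ofHom A.val.toRingHom) ≫ a =
      Spec.map (CommRingCat.ofHom (H8Lim.fgSub R s).val.toRingHom) := by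
    rw [← hαβ, ← Spec.map_comp]
    rfl
  let g₁ : X ⟶ pullback f₀ a := pullback.lift g (f ≫ Spec.map (CommRingCat.ofHom A.val.toRingHom)) (by
    rw [Category.assoc, hba, sq.w])
  refine ⟨A, pullback f₀ a, pullback.snd f₀ a, g₁, hA, MorphismProperty.pullback_snd (P := @IsProper) _ _ ‹_›,
    MorphismProperty.pullback_snd (P := @Smooth) _ _ ‹_›, fun p => ?_, ?_⟩
  · rw [isGenusFibre_iff_of_isPullback f₀ (IsPullback.of_hasPullback f₀ a) γ p]
    exact hall (PrimeSpectrum.comap π p)
  · refine IsPullback.of_right ?_ (pullback.lift_snd _ _ _) (IsPullback.of_hasPullback f₀ a)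
    rw [pullback.lift_fst, hba]
    exact sq

end Groth.Agent.CurveModel24
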